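import Cfsg.Agent.Lib.Chev.Aut.OutB2Cyclic
import Cfsg.Agent.Lib.Chev.OrderD4
import Cfsg.Agent.Lib.ChevClassical.D4
import Cfsg.Agent.Lib.FiniteForms.Quad
import Mathlib.GroupTheory.GroupAction.Quotient

/-!
The outer automorphism group of `Cfsg.Lie.chevD4(q)`: triality and the diagonal classes generate a symmetric group, which
the field classes centralise.
-/

set_option autoImplicit false
set_option linter.unusedSectionVars false
set_option linter.unusedSimpArgs false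
set_option maxRecDepth 100000
set_option maxHeartbeats 1600000

namespace CfsgLib.OutPlus

open Cfsg.Lie Matrix CfsgLib.Chev

local notation "Node" => Fin (ChevalleyDatum.rank Cfsg.Lie.chevD4)

theorem d4_exp (c : ℕ) (i j : Node) : Cfsg.Lie.chevD4.graphExp c i j = 1 := by
  have h : ∀ i j : Node, (Cfsg.Lie.chevD4.isLong (Cfsg.Lie.chevD4.simple j) && !Cfsg.Lie.chevD4.isLong (Cfsg.Lie.chevD4.simple i)) = false := by decide +kernel
  simp [ChevalleyDatum.graphExp, h i j]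

/-- The centre of the diagram. -/
def node1 : Node := ⟨1, by decide⟩

theorem cart_table : ∀ a b : Fin 4, Cfsg.Lie.chevD4.cartan a.val (Cfsg.Lie.chevD4.simple b.val) =
    (!![2, -1, 0, 0; -1, 2, -1, -1; 0, -1, 2, 0; 0, -1, 0, 2] : Matrix (Fin 4) (Fin 4) ℤ) b a := by
  decide +kernel

variable {F : Type*} [Field F] [Finite F]

theorem coHom_val (e : Node → Fˣ) (i : Fin 4) :
    Chev.coHom CfsgLib.Chev.chevD4 F e i = ∏ k : Fin 4, e k ^
      (!![2, -1, 0, 0; -1, 2, -1, -1; 0, -1, 2, 0; 0, -1, 0, 2] : Matrix (Fin 4) (Fin 4) ℤ) i k := by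
  show ∏ k : Fin 4, e k ^ CfsgLib.Chev.chevD4.A k (CfsgLib.Chev.chevD4.p i) = _
  refine Finset.prod_congr rfl fun k _ => ?_
  congr 1
  exact (Chev.cartN_eq CfsgLib.Chev.chevD4 k i).symm.trans (cart_table k i)

theorem sq_mem (d : Node → Fˣ) : d * d ∈ (Chev.coHom CfsgLib.Chev.chevD4 F).range := by
  let d' : Fin 4 → Fˣ := d
  let e : Fin 4 → Fˣ := ![d' 0 ^ 2 * d' 1 ^ 2 * d' 2 * d' 3, d' 0 ^ 2 * d' 1 ^ 4 * d' 2 ^ 2 * d' 3 ^ 2,
    d' 0 * d' 1 ^ 2 * d' 2 ^ 2 * d' 3, d' 0 * d' 1 ^ 2 * d' 2 * d' 3 ^ 2]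
  refine ⟨e, funext fun i => ?_⟩
  rw [coHom_val e i, Fin.prod_univ_four, Pi.mul_apply]
  refine Units.ext ?_
  change _ = ((d' i * d' i : Fˣ) : F)
  have h4 : ∀ i : Fin 4, i = 0 ∨ i = 1 ∨ i = 2 ∨ i = 3 := by decide
  rcases h4 i with rfl | rfl | rfl | rfl <;> simp [e, _root_.zpow_neg] <;> field_simp <;> ring

/-- The quadratic character of two outer nodes on the image of the cocharacters. -/
theorem square_of_mem {c : Node → Fˣ} (hc : c ∈ (Chev.coHom CfsgLib.Chev.chevD4 F).range) {i k : Node} (hi : i ≠ node1)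
    (hk : k ≠ node1) : IsSquare (c i * c k) := by
  obtain ⟨e, rfl⟩ := hc
  have h : ∀ i : Fin 4, i ≠ (1 : Fin 4) → Chev.coHom CfsgLib.Chev.chevD4 F e i = e i * e i * (e node1)⁻¹ := fun i hi => by
    rw [coHom_val e i, Fin.prod_univ_four]
    let e4 : Fin 4 → Fˣ := e
    show e4 0 ^ _ * e4 1 ^ _ * e4 2 ^ _ * e4 3 ^ _ = e4 i * e4 i * (e4 1)⁻¹
    have h4 : ∀ i : Fin 4, i = 0 ∨ i = 1 ∨ i = 2 ∨ i = 3 := by decide
    rcases h4 i with rfl | rfl | rfl | rfl <;> simp [zpow_two, pow_two, mul_comm] at hi ⊢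
  rw [h i hi, h k hk]
  exact ⟨e i * e k * (e node1)⁻¹, by ac_rfl⟩

theorem index_range : (Chev.coHom CfsgLib.Chev.chevD4 F).range.index = Nat.gcd (Nat.card F - 1) 2 ^ 2 := by
  refine Chev.index_coHom CfsgLib.Chev.chevD4 (g := Nat.gcd (Nat.card F - 1) 2 ^ 2) ?_
  have := cardHD4 CfsgLib.Chev.chevD4 F
  simp [Fin.prod_univ_four, pow_two] at this ⊢
  exact this

theorem hA : Chev.AutType CfsgLib.Chev.chevD4 F allowD4 := Chev.autType_D4 CfsgLib.Chev.chevD4 F

theorem card_graph : Nat.card (Chev.graphHom CfsgLib.Chev.chevD4 F).range = 6 := by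
  rw [Chev.card_range CfsgLib.Chev.chevD4 hA]
  simp [allowD4, List.filter_cons]

theorem fix_node {σ : Equiv.Perm Node} (hσ : σ ∈ (Chev.graphHom CfsgLib.Chev.chevD4 F).range) : σ node1 = node1 := by
  obtain ⟨L, hL, hσL, -⟩ := (Chev.mem_range_graphHom CfsgLib.Chev.chevD4 hA).1 hσ
  refine Fin.ext ?_
  rw [← permList_getD σ node1, hσL]
  simp only [allowD4, List.mem_cons, List.not_mem_nil, or_false] at hL
  rcases hL with rfl | rfl | rfl | rfl | rfl | rfl <;> rfl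

theorem exists_graph (σ : (Chev.graphHom CfsgLib.Chev.chevD4 F).range) :
    ∃ g : ↥(Cfsg.Lie.chevD4.group F) ≃* ↥(Cfsg.Lie.chevD4.group F), Chev.GraphMap CfsgLib.Chev.chevD4 g σ.1 ∧ Chev.Fix g :=
  (hA.good ((Chev.mem_range_graphHom CfsgLib.Chev.chevD4 hA).1 σ.2)).2

/-- The graph automorphism of a symmetry. -/
noncomputable def gAut (σ : (Chev.graphHom CfsgLib.Chev.chevD4 F).range) : MulAut ↥(Cfsg.Lie.chevD4.group F) := (exists_graph σ).choose

theorem gAut_eg (σ : (Chev.graphHom CfsgLib.Chev.chevD4 F).range) (i : Node) (t : F) :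
    gAut σ (CfsgLib.Chev.chevD4.eg (CfsgLib.Chev.chevD4.p i) t) = CfsgLib.Chev.chevD4.eg (CfsgLib.Chev.chevD4.p (σ.1 i)) t ∧
      gAut σ (CfsgLib.Chev.chevD4.eg (CfsgLib.Chev.chevD4.p i).rev t) = CfsgLib.Chev.chevD4.eg (CfsgLib.Chev.chevD4.p (σ.1 i)).rev t := by
  have h := (exists_graph σ).choose_spec.1 i t
  rw [d4_exp, pow_one] at h
  exact h

/-- The classes of the graph automorphisms. -/
noncomputable def gamma : (Chev.graphHom CfsgLib.Chev.chevD4 F).range →* Cfsg.Out ↥(Cfsg.Lie.chevD4.group F) :=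
  MonoidHom.mk' (fun σ => Chev.cls F (gAut σ)) fun a b => by
    rw [← map_mul]
    congr 1
    exact Chev.aut_ext CfsgLib.Chev.chevD4 fun i t => ⟨by rw [MulAut.mul_apply, (gAut_eg _ i t).1, (gAut_eg _ i t).1, (gAut_eg _ _ t).1]; rfl,
      by rw [MulAut.mul_apply, (gAut_eg _ i t).2, (gAut_eg _ i t).2, (gAut_eg _ _ t).2]; rfl⟩

theorem graphHom_gamma (σ : (Chev.graphHom CfsgLib.Chev.chevD4 F).range) : Chev.graphHom CfsgLib.Chev.chevD4 F (gamma σ) = σ.1 :=
  Chev.graphHom_of_perm CfsgLib.Chev.chevD4 (exists_graph σ).choose_spec.2 fun i t => ⟨_, (gAut_eg σ i t).1⟩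

theorem gamma_diag (σ : (Chev.graphHom CfsgLib.Chev.chevD4 F).range) (c : Node → Fˣ) :
    gamma σ * Chev.diagCls CfsgLib.Chev.chevD4 F c = Chev.diagCls CfsgLib.Chev.chevD4 F (fun i => c (σ.1.symm i)) * gamma σ := by
  show Chev.cls F (gAut σ) * Chev.cls F (Chev.torusAut CfsgLib.Chev.chevD4 F c) =
    Chev.cls F (Chev.torusAut CfsgLib.Chev.chevD4 F _) * Chev.cls F (gAut σ)
  rw [← map_mul, ← map_mul]
  congr 1
  refine Chev.aut_ext CfsgLib.Chev.chevD4 fun i t => ⟨?_, ?_⟩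
  · rw [MulAut.mul_apply, MulAut.mul_apply, (Chev.torusAut_p CfsgLib.Chev.chevD4 c i t).1, (gAut_eg σ i _).1, (gAut_eg σ i t).1,
      (Chev.torusAut_p CfsgLib.Chev.chevD4 _ _ t).1, Equiv.symm_apply_apply]
  · rw [MulAut.mul_apply, MulAut.mul_apply, (Chev.torusAut_p CfsgLib.Chev.chevD4 c i t).2, (gAut_eg σ i _).2, (gAut_eg σ i t).2,
      (Chev.torusAut_p CfsgLib.Chev.chevD4 _ _ t).2, Equiv.symm_apply_apply]

theorem gamma_field (σ : (Chev.graphHom CfsgLib.Chev.chevD4 F).range) (τ : RingAut F) :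
    gamma σ * Chev.fieldCls CfsgLib.Chev.chevD4 F τ = Chev.fieldCls CfsgLib.Chev.chevD4 F τ * gamma σ := by
  show Chev.cls F (gAut σ) * Chev.cls F (Chev.autFieldHom CfsgLib.Chev.chevD4 F τ) =
    Chev.cls F (Chev.autFieldHom CfsgLib.Chev.chevD4 F τ) * Chev.cls F (gAut σ)
  rw [← map_mul, ← map_mul]
  congr 1
  refine Chev.aut_ext CfsgLib.Chev.chevD4 fun i t => ⟨?_, ?_⟩ <;>
    simp only [MulAut.mul_apply, Chev.fieldHom_eg, (gAut_eg σ i _).1, (gAut_eg σ i _).2]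

theorem diag_of_mem {c : Node → Fˣ} (h : c ∈ (Chev.coHom CfsgLib.Chev.chevD4 F).range) : Chev.diagCls CfsgLib.Chev.chevD4 F c = 1 := by
  obtain ⟨e, rfl⟩ := h
  exact Chev.cls_torus_coHom CfsgLib.Chev.chevD4 e

theorem mem_of_diag {c : Node → Fˣ} (h : Chev.diagCls CfsgLib.Chev.chevD4 F c = 1) : c ∈ (Chev.coHom CfsgLib.Chev.chevD4 F).range :=
  (Chev.eq_of_cls CfsgLib.Chev.chevD4 (τ := 1) (by rw [map_one, mul_one, h])).1

theorem card_units_gcd (h2 : (2 : F) = 0) : Nat.gcd (Nat.card F - 1) 2 = 1 := by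
  letI : Fintype F := Fintype.ofFinite F
  have he := FiniteField.even_card_of_char_two (CharP.ringChar_of_prime_eq_zero Nat.prime_two (by exact_mod_cast h2) :
    ringChar F = 2)
  rw [Nat.card_eq_fintype_card]
  have := Fintype.one_lt_card (α := F)
  exact Nat.Coprime.gcd_eq_one (Nat.coprime_two_right.mpr (Nat.odd_iff.mpr (by omega)))

theorem gcd_odd (h2 : (2 : F) ≠ 0) : Nat.gcd (Nat.card F - 1) 2 = 2 := by
  letI : Fintype F := Fintype.ofFinite F
  have ho : Fintype.card F % 2 = 1 := by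
    have := FiniteField.odd_card_of_char_ne_two (fun h => h2 (by haveI := ringChar.of_eq h; exact CharTwo.two_eq_zero) :
      ringChar F ≠ 2)
    omega
  rw [Nat.card_eq_fintype_card]
  exact Nat.gcd_eq_right (by omega)

theorem field_diag (τ : RingAut F) (c : Node → Fˣ) :
    Chev.fieldCls CfsgLib.Chev.chevD4 F τ * Chev.diagCls CfsgLib.Chev.chevD4 F c = Chev.diagCls CfsgLib.Chev.chevD4 F c * Chev.fieldCls CfsgLib.Chev.chevD4 F τ := by
  letI : Fintype F := Fintype.ofFinite F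
  set c' : Node → Fˣ := fun i => Units.map (τ : F →+* F).toMonoidHom (c i) with hc'
  have h : Chev.fieldCls CfsgLib.Chev.chevD4 F τ * Chev.diagCls CfsgLib.Chev.chevD4 F c = Chev.diagCls CfsgLib.Chev.chevD4 F c' * Chev.fieldCls CfsgLib.Chev.chevD4 F τ := by
    show Chev.cls F (Chev.autFieldHom CfsgLib.Chev.chevD4 F τ) * Chev.cls F (Chev.torusAut CfsgLib.Chev.chevD4 F c) =
      Chev.cls F (Chev.torusAut CfsgLib.Chev.chevD4 F c') * Chev.cls F (Chev.autFieldHom CfsgLib.Chev.chevD4 F τ)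
    rw [← map_mul, ← map_mul]
    congr 1
    refine Chev.aut_ext CfsgLib.Chev.chevD4 fun i t => ⟨?_, ?_⟩
    · rw [MulAut.mul_apply, MulAut.mul_apply, (Chev.torusAut_p CfsgLib.Chev.chevD4 c i t).1, Chev.fieldHom_eg, Chev.fieldHom_eg,
        (Chev.torusAut_p CfsgLib.Chev.chevD4 _ i _).1, map_mul]
      rfl
    · rw [MulAut.mul_apply, MulAut.mul_apply, (Chev.torusAut_p CfsgLib.Chev.chevD4 c i t).2, Chev.fieldHom_eg, Chev.fieldHom_eg,
        (Chev.torusAut_p CfsgLib.Chev.chevD4 _ i _).2, map_mul]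
      simp [hc']
  rw [h]
  congr 1
  rw [← mul_inv_eq_one, ← map_inv, ← map_mul]
  refine diag_of_mem ?_
  by_cases h2 : (2 : F) = 0
  · have hidx := index_range (F := F)
    rw [card_units_gcd h2, one_pow, Subgroup.index_eq_one] at hidx
    rw [hidx]
    exact Subgroup.mem_top _
  have hsq : ∀ i, ∃ d : Fˣ, c' i * (c i)⁻¹ = d * d := fun i => by
    by_cases h : IsSquare (c i)
    · obtain ⟨a, ha⟩ := h
      exact ⟨Units.map (τ : F →+* F).toMonoidHom a * a⁻¹, by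
        show Units.map (τ : F →+* F).toMonoidHom (c i) * (c i)⁻¹ = _
        rw [ha, map_mul, _root_.mul_inv_rev]; ac_rfl⟩
    · have h0 : ¬ IsSquare (c i : F) := fun ⟨a, ha⟩ => h
        ⟨Units.mk0 a (fun h0 => (c i).ne_zero (by rw [ha, h0, mul_zero])), Units.ext (by simpa using ha)⟩
      have h1 : ¬ IsSquare (c' i : F) := fun ⟨a, ha⟩ => h0 ⟨τ.symm a, τ.injective (by
        rw [map_mul, RingEquiv.apply_symm_apply, ← ha]; rfl)⟩
      obtain ⟨a, ha⟩ := (FiniteForms.isSquare_mul_iff (c' i).ne_zero (inv_ne_zero (c i).ne_zero)).mpr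
        (iff_of_false h1 (by rwa [isSquare_inv]))
      exact ⟨Units.mk0 a (fun h0 => mul_ne_zero (c' i).ne_zero (inv_ne_zero (c i).ne_zero) (by rw [ha, h0, mul_zero])),
        Units.ext (by simpa using ha)⟩
  choose d hd using hsq
  exact (funext hd : c' * c⁻¹ = d * d) ▸ sq_mem d

variable (F) in
/-- Diagonal and graph classes. -/
noncomputable def dgSub : Subgroup (Cfsg.Out ↥(Cfsg.Lie.chevD4.group F)) :=
  (Chev.diagCls CfsgLib.Chev.chevD4 F).range ⊔ (gamma (F := F)).range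

theorem exists_of_mem_dgSub {q : Cfsg.Out ↥(Cfsg.Lie.chevD4.group F)} (h : q ∈ dgSub F) :
    ∃ c σ, q = Chev.diagCls CfsgLib.Chev.chevD4 F c * gamma σ := by
  haveI := Chev.diag_normal CfsgLib.Chev.chevD4 (F := F)
  obtain ⟨_, ⟨c, rfl⟩, _, ⟨σ, rfl⟩, rfl⟩ := Subgroup.mem_sup_of_normal_left.mp h
  exact ⟨c, σ, rfl⟩

theorem split : Nonempty (Cfsg.Out ↥(Cfsg.Lie.chevD4.group F) ≃* dgSub F × RingAut F) := by
  let ψ : dgSub F × RingAut F →* Cfsg.Out ↥(Cfsg.Lie.chevD4.group F) :=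
    MonoidHom.noncommCoprod (dgSub F).subtype (Chev.fieldCls CfsgLib.Chev.chevD4 F) fun q τ => by
      obtain ⟨c, σ, hq⟩ := exists_of_mem_dgSub q.2
      show Commute q.1 (Chev.fieldCls CfsgLib.Chev.chevD4 F τ)
      rw [hq]
      exact Commute.mul_left (field_diag τ c).symm (gamma_field σ τ)
  refine ⟨(MulEquiv.ofBijective ψ ⟨(injective_iff_map_eq_one ψ).mpr ?_, fun q => ?_⟩).symm⟩
  · rintro ⟨q, τ⟩ h
    replace h : q.1 * Chev.fieldCls CfsgLib.Chev.chevD4 F τ = 1 := h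
    obtain ⟨c, σ, hq⟩ := exists_of_mem_dgSub q.2
    have hg := congrArg (Chev.graphHom CfsgLib.Chev.chevD4 F) h
    rw [hq, map_mul, map_mul, map_one, show Chev.graphHom CfsgLib.Chev.chevD4 F (Chev.diagCls CfsgLib.Chev.chevD4 F c) = 1 from Chev.graphHom_torus CfsgLib.Chev.chevD4 c,
      show Chev.graphHom CfsgLib.Chev.chevD4 F (Chev.fieldCls CfsgLib.Chev.chevD4 F τ) = 1 from Chev.graphHom_field CfsgLib.Chev.chevD4 τ, one_mul, mul_one,
      graphHom_gamma] at hg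
    rw [show σ = 1 from Subtype.ext hg, map_one, mul_one] at hq
    rw [hq] at h
    have hτ := (Chev.eq_of_cls CfsgLib.Chev.chevD4 h).2 (by decide)
    rw [hτ, map_one, mul_one] at h
    exact Prod.ext (Subtype.ext (hq.trans h)) hτ
  · obtain ⟨σ, hσ⟩ : ∃ σ : (Chev.graphHom CfsgLib.Chev.chevD4 F).range, σ.1 = Chev.graphHom CfsgLib.Chev.chevD4 F q :=
      ⟨⟨_, q, rfl⟩, rfl⟩
    obtain ⟨c, τ, h⟩ := Chev.exists_of_ker CfsgLib.Chev.chevD4 hA (q := (gamma σ)⁻¹ * q)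
      (by rw [map_mul, map_inv, graphHom_gamma, hσ, inv_mul_cancel])
    refine ⟨(⟨gamma σ * Chev.diagCls CfsgLib.Chev.chevD4 F c, mul_mem (Subgroup.mem_sup_right ⟨σ, rfl⟩)
      (Subgroup.mem_sup_left ⟨c, rfl⟩)⟩, τ), ?_⟩
    show gamma σ * Chev.diagCls CfsgLib.Chev.chevD4 F c * Chev.fieldCls CfsgLib.Chev.chevD4 F τ = q
    rw [mul_assoc, h, mul_inv_cancel_left]

theorem card_dgSub : Nat.card (dgSub F) = Nat.gcd (Nat.card F - 1) 2 ^ 2 * 6 := by
  obtain ⟨e⟩ := split (F := F)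
  have h := Chev.card_out CfsgLib.Chev.chevD4 (hA (F := F)) (by decide)
  rw [Nat.card_congr e.toEquiv, Nat.card_prod, index_range, card_graph] at h
  have hpos : 0 < Nat.card (RingAut F) := by
    haveI : Finite (RingAut F) := Finite.of_injective (fun σ : RingAut F => (σ : F → F)) DFunLike.coe_injective
    exact Nat.card_pos
  exact Nat.eq_of_mul_eq_mul_right hpos (by rw [h]; ring)

theorem dg_even (h2 : (2 : F) = 0) : Nonempty (dgSub F ≃* Equiv.Perm (Fin 3)) := by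
  classical
  have hfix : ∀ q : Cfsg.Out ↥(Cfsg.Lie.chevD4.group F), Chev.graphHom CfsgLib.Chev.chevD4 F q node1 = node1 := fun q => fix_node ⟨q, rfl⟩
  have hiff : ∀ (q : Cfsg.Out ↥(Cfsg.Lie.chevD4.group F)) i, Chev.graphHom CfsgLib.Chev.chevD4 F q i ≠ node1 ↔ i ≠ node1 := fun q i => by
    rw [not_iff_not]
    exact ⟨fun h => (Chev.graphHom CfsgLib.Chev.chevD4 F q).injective (h.trans (hfix q).symm), fun h => h ▸ hfix q⟩
  let r : dgSub F →* Equiv.Perm {i : Node // i ≠ node1} :=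
    MonoidHom.mk' (fun q => (Chev.graphHom CfsgLib.Chev.chevD4 F q.1).subtypePerm (fun i => hiff q.1 i)) fun a b =>
      Equiv.ext fun i => Subtype.ext (by simp [map_mul]; rfl)
  have hinj : Function.Injective r := (injective_iff_map_eq_one r).mpr fun q h => by
    obtain ⟨c, σ, hq⟩ := exists_of_mem_dgSub q.2
    have hg : Chev.graphHom CfsgLib.Chev.chevD4 F q.1 = σ.1 := by
      rw [hq, map_mul, show Chev.graphHom CfsgLib.Chev.chevD4 F (Chev.diagCls CfsgLib.Chev.chevD4 F c) = 1 from Chev.graphHom_torus CfsgLib.Chev.chevD4 c, one_mul,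
        graphHom_gamma]
    have hσ : σ = 1 := Subtype.ext (Equiv.ext fun i => by
      by_cases hi : i = node1
      · rw [hi]; exact fix_node σ.2
      · have := congrArg (fun p : Equiv.Perm {i : Node // i ≠ node1} => (p ⟨i, hi⟩).1) h
        simpa [r, hg] using this)
    have hidx := index_range (F := F)
    rw [card_units_gcd h2, one_pow, Subgroup.index_eq_one] at hidx
    exact Subtype.ext (by rw [hq, hσ, map_one, mul_one, diag_of_mem (hidx ▸ Subgroup.mem_top c)]; rfl)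
  have hc : Nat.card {i : Node // i ≠ node1} = 3 := by
    rw [Nat.card_eq_fintype_card]; decide
  haveI : Finite (dgSub F) := Finite.of_injective r hinj
  have hb : Function.Bijective r := (Nat.bijective_iff_injective_and_card r).mpr
    ⟨hinj, by rw [card_dgSub, card_units_gcd h2, Nat.card_perm, hc]; rfl⟩
  exact ⟨(MulEquiv.ofBijective r hb).trans (Equiv.permCongrHom (Finite.equivFinOfCardEq hc))⟩

theorem dg_odd (h2 : (2 : F) ≠ 0) : Nonempty (dgSub F ≃* Equiv.Perm (Fin 4)) := by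
  classical
  let Γ : Subgroup (dgSub F) := (gamma (F := F)).range.subgroupOf (dgSub F)
  have hK : Nat.card (dgSub F) = 24 := by rw [card_dgSub, gcd_odd h2]; norm_num
  haveI : Finite (dgSub F) := Nat.finite_of_card_ne_zero (by omega)
  have hγ : Function.Injective (gamma (F := F)) := fun a b h => Subtype.ext (by
    rw [← graphHom_gamma a, h, graphHom_gamma])
  have hΓ : Nat.card Γ = 6 := by
    refine (Nat.card_congr (Subgroup.subgroupOfEquivOfLe (le_sup_right : _ ≤ dgSub F)).toEquiv).trans ?_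
    rw [← Nat.card_congr (MonoidHom.ofInjective hγ).toEquiv, card_graph]
  have hq : Nat.card (dgSub F ⧸ Γ) = 4 := by
    have := Γ.card_mul_index
    rw [hΓ, hK] at this
    show Γ.index = 4
    omega
  have hinj : Function.Injective (MulAction.toPermHom (dgSub F) (dgSub F ⧸ Γ)) := by
    rw [← MonoidHom.ker_eq_bot_iff, ← Subgroup.normalCore_eq_ker, eq_bot_iff]
    intro n hn
    rw [Subgroup.mem_bot]
    obtain ⟨σ, hσ⟩ : n.1 ∈ (gamma (F := F)).range := Subgroup.normalCore_le Γ hn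
    suffices hs : σ = 1 by exact Subtype.ext (by rw [← hσ, hs, map_one]; rfl)
    by_contra hne
    obtain ⟨i, hi⟩ : ∃ i, σ.1 i ≠ i := by
      by_contra h; push Not at h; exact hne (Subtype.ext (Equiv.ext h))
    have hi1 : i ≠ node1 := fun h => hi (h ▸ fix_node σ.2)
    have hj1 : σ.1 i ≠ node1 := fun h => hi1 (σ.1.injective (h.trans (fix_node σ.2).symm))
    obtain ⟨k, hk1, hki, hkj⟩ : ∃ k, k ≠ node1 ∧ k ≠ i ∧ k ≠ σ.1 i := by
      have : ∀ a b : Node, ∃ k : Node, k ≠ node1 ∧ k ≠ a ∧ k ≠ b := by decide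
      exact this i (σ.1 i)
    letI : Fintype F := Fintype.ofFinite F
    obtain ⟨ν, hν⟩ := FiniteField.exists_nonsquare (F := F)
      (fun h => h2 (by haveI := ringChar.of_eq h; exact CharTwo.two_eq_zero))
    have hν0 : ν ≠ 0 := fun h => hν (h ▸ IsSquare.zero)
    obtain ⟨c, hc⟩ : ∃ c : Node → Fˣ, c = Pi.mulSingle i (Units.mk0 ν hν0) := ⟨_, rfl⟩
    obtain ⟨d, hd⟩ : ∃ d : dgSub F, d.1 = Chev.diagCls CfsgLib.Chev.chevD4 F c := ⟨⟨_, Subgroup.mem_sup_left ⟨c, rfl⟩⟩, rfl⟩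
    obtain ⟨τ, hτ⟩ : n.1 * d.1 * n.1⁻¹ * d.1⁻¹ ∈ (gamma (F := F)).range := by
      have h1 : d * n⁻¹ * d⁻¹ ∈ Γ := Subgroup.normalCore_le Γ
        (Subgroup.Normal.conj_mem (Subgroup.normalCore_normal Γ) _ (inv_mem hn) d)
      have h3 : (n * (d * n⁻¹ * d⁻¹)).1 ∈ (gamma (F := F)).range :=
        (Γ.mul_mem (Subgroup.normalCore_le Γ hn) h1 : n * (d * n⁻¹ * d⁻¹) ∈ Γ)
      simpa [mul_assoc] using h3
    rw [← hσ, hd, gamma_diag, mul_inv_cancel_right, ← map_inv, ← map_mul] at hτ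
    have hg := congrArg (Chev.graphHom CfsgLib.Chev.chevD4 F) hτ
    rw [graphHom_gamma] at hg
    rw [show τ = 1 from Subtype.ext (hg.trans (Chev.graphHom_torus CfsgLib.Chev.chevD4 _)), map_one] at hτ
    have hm := square_of_mem (mem_of_diag hτ.symm) hi1 hk1
    refine hν ?_
    have e1 : σ.1.symm i ≠ i := fun h => hi (by nth_rewrite 1 [← h]; simp)
    have e2 : σ.1.symm k ≠ i := fun h => hkj (by rw [← h, Equiv.apply_symm_apply])
    simp only [hc, Pi.mul_apply, Pi.inv_apply, Pi.mulSingle_eq_of_ne e1, Pi.mulSingle_eq_of_ne e2,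
      Pi.mulSingle_eq_same, Pi.mulSingle_eq_of_ne hki, inv_one, one_mul, mul_one] at hm
    obtain ⟨a, ha⟩ := hm
    exact ⟨(a⁻¹ : Fˣ), by rw [← Units.val_mul, ← _root_.mul_inv_rev, ← ha, inv_inv]; rfl⟩
  have hb : Function.Bijective (MulAction.toPermHom (dgSub F) (dgSub F ⧸ Γ)) :=
    (Nat.bijective_iff_injective_and_card _).mpr ⟨hinj, by rw [hK, Nat.card_perm, hq]; rfl⟩
  exact ⟨(MulEquiv.ofBijective _ hb).trans (Equiv.permCongrHom (Finite.equivFinOfCardEq hq))⟩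

omit [Finite F] in
theorem d4_equiv : Nonempty (↥(Cfsg.Lie.chevD4.group F) ≃* Cfsg.POmega F (Cfsg.quadFormPlus 4 F)) := by
  have h := ChevClassical.Tab.nonempty_equiv ChevClassical.D4.ok
    (R := ChevClassical.qform (F := F) ChevClassical.D4.tab)
    (simple_of_conn CfsgLib.Chev.chevD4 connD4 ⟨0, by decide⟩ (perfect_of_mem (by simp) fun h => by
      rcases h with h | h <;> exact absurd (congrArg ChevalleyDatum.rank h) (by decide)))
    (fun r t => ⟨CfsgLib.Chev.chevD4.xg r t, by rw [CfsgLib.Chev.chevD4.xg_val]; exact (CfsgLib.Chev.chevD4.xMat_eq F r t).symm⟩)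
    ChevClassical.D4.omega_model
  rwa [ChevClassical.D4.form_eq] at h

theorem out_d4 (F : Type*) [Field F] [Fintype F] {p f : ℕ} [Fact p.Prime] (hf : 1 ≤ f)
    (hF : Fintype.card F = p ^ f) :
    if p = 2 then Nonempty (Cfsg.Out (Cfsg.POmega F (Cfsg.quadFormPlus 4 F)) ≃* Equiv.Perm (Fin 3) × Multiplicative (ZMod f))
    else Nonempty (Cfsg.Out (Cfsg.POmega F (Cfsg.quadFormPlus 4 F)) ≃* Equiv.Perm (Fin 4) × Multiplicative (ZMod f)) := by
  haveI : CharP F p := charP_of_card_eq_prime_pow hF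
  obtain ⟨hcyc, hcard⟩ := Chev.ringAut_cyclic_card (F := F) p (f := f) (by rw [Nat.card_eq_fintype_card, hF])
  haveI := hcyc
  have e3 : RingAut F ≃* Multiplicative (ZMod f) :=
    mulEquivOfCyclicCardEq (by rw [hcard, Nat.card_congr Multiplicative.toAdd, Nat.card_zmod])
  obtain ⟨e1⟩ := d4_equiv (F := F)
  obtain ⟨e2⟩ := split (F := F)
  have e := ((outEquiv e1).symm.trans e2)
  split_ifs with hp
  · subst hp
    obtain ⟨e4⟩ := dg_even (F := F) CharTwo.two_eq_zero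
    exact ⟨e.trans (e4.prodCongr e3)⟩
  · have h2 : (2 : F) ≠ 0 := by
      intro h
      have := (CharP.cast_eq_zero_iff F p 2).mp (by exact_mod_cast h)
      exact hp ((Nat.prime_dvd_prime_iff_eq Fact.out Nat.prime_two).mp this)
    obtain ⟨e4⟩ := dg_odd (F := F) h2
    exact ⟨e.trans (e4.prodCongr e3)⟩

end CfsgLib.OutPlus
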