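import Cfsg.Agent.Lib.OutPlus.Generic
import Cfsg.Agent.Lib.OutPlus.D4

/-!
The order and structure of the outer automorphism groups of the orthogonal groups of plus type.
-/

set_option autoImplicit false

namespace CfsgLib.OutPlus

open CfsgLib.Lagrangian (Qp Qp_apply Qp_nondeg)

variable {F : Type*} [Field F] [Fintype F] {m p f : ℕ} [Fact p.Prime]

theorem form_eq (m : ℕ) (F : Type*) [Field F] : Cfsg.quadFormPlus m F = ⇑(Qp m F) :=
  funext fun v => (Qp_apply v).symm

theorem two_zero (hF : Fintype.card F = p ^ f) (hp : p = 2) : (2 : F) = 0 := by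
  subst hp
  haveI : CharP F 2 := charP_of_card_eq_prime_pow hF
  exact CharTwo.two_eq_zero

theorem odd_card (hF : Fintype.card F = p ^ f) (hp : p ≠ 2) : Odd (Fintype.card F) := by
  rw [hF]; exact ((Fact.out : p.Prime).odd_of_ne_two hp).pow

theorem out_even (hm : 5 ≤ m) (hp : p = 2) (hf : 1 ≤ f) (hF : Fintype.card F = p ^ f) :
    Nonempty (Cfsg.Out (Cfsg.POmega F (Cfsg.quadFormPlus m F)) ≃* Multiplicative (ZMod 2 × ZMod f)) := by
  haveI : Fact (Nat.Prime 2) := ⟨Nat.prime_two⟩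
  obtain ⟨e⟩ := out_prod (F := F) hm hf hF
  rw [form_eq]
  refine ⟨(e.trans ((mulEquivOfPrimeCardEq (p := 2) (index_two hm (two_zero hF hp)) ?_).prodCongr
    (MulEquiv.refl _))).trans (MulEquiv.prodMultiplicative (ZMod 2) (ZMod f)).symm⟩
  rw [Nat.card_congr Multiplicative.toAdd, Nat.card_zmod]

theorem out_odd (hm : 5 ≤ m) (hp : p ≠ 2) (hf : 1 ≤ f) (hF : Fintype.card F = p ^ f) :
    if p ^ f % 4 = 3 ∧ Odd m then
      Nonempty (Cfsg.Out (Cfsg.POmega F (Cfsg.quadFormPlus m F)) ≃* Multiplicative (ZMod 2 × ZMod 2 × ZMod f))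
    else Nonempty (Cfsg.Out (Cfsg.POmega F (Cfsg.quadFormPlus m F)) ≃* DihedralGroup 4 × Multiplicative (ZMod f)) := by
  obtain ⟨e⟩ := out_prod (F := F) hm hf hF
  have hodd := odd_card hF hp
  have hn := PGO.negMem_plus (F := F) (m := m) hodd (by omega)
  rw [form_eq]
  split_ifs with h
  · obtain ⟨e'⟩ := (PGO.plusData hodd (by omega)).four_iso fun h' => hn.mp h' ⟨h.2, by rw [hF]; exact h.1⟩
    exact ⟨((e.trans (e'.symm.prodCongr (MulEquiv.refl _))).trans
      (MulEquiv.prodMultiplicative (ZMod 2 × ZMod 2) (ZMod f)).symm).trans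
        (AddEquiv.toMultiplicative (AddEquiv.prodAssoc (M := ZMod 2) (N := ZMod 2) (P := ZMod f)))⟩
  · obtain ⟨e'⟩ := (PGO.plusData hodd (by omega)).dihedral_iso (hn.mpr fun h' => h ⟨by rw [← hF]; exact h'.2, h'.1⟩)
    exact ⟨e.trans (e'.symm.prodCongr (MulEquiv.refl _))⟩

theorem even_half_iff (m : ℕ) {q : ℕ} (hq : Odd q) : Even (m * (q - 1) / 2) ↔ ¬ (Odd m ∧ q % 4 = 3) := by
  obtain ⟨k, rfl⟩ := hq
  rw [show m * (2 * k + 1 - 1) / 2 = m * k by
    rw [Nat.add_sub_cancel, ← mul_assoc, mul_comm m 2, mul_assoc, Nat.mul_div_cancel_left _ two_pos]]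
  rw [Nat.even_mul, Nat.odd_iff, Nat.even_iff, Nat.even_iff]
  omega

theorem card_out (hm : 4 ≤ m) (hf : 1 ≤ f) (hF : Fintype.card F = p ^ f) :
    Nat.card (Cfsg.Out (Cfsg.POmega F (Cfsg.quadFormPlus m F))) =
      (if m = 4 then 3 else 1) * (if p = 2 then 2 else (if Even (m * (p ^ f - 1) / 2) then 8 else 4)) * f := by
  have hZ : Nat.card (Multiplicative (ZMod f)) = f := by rw [Nat.card_congr Multiplicative.toAdd, Nat.card_zmod]
  by_cases h4 : m = 4
  · subst h4
    have h := out_d4 F hf hF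
    by_cases hp : p = 2
    · rw [if_pos hp] at h
      obtain ⟨e⟩ := h
      rw [Nat.card_congr e.toEquiv, Nat.card_prod, Nat.card_perm, Nat.card_fin, hZ, if_pos rfl, if_pos hp]
      rfl
    · rw [if_neg hp] at h
      obtain ⟨e⟩ := h
      have hev : Even (4 * (p ^ f - 1) / 2) := ⟨p ^ f - 1, by omega⟩
      rw [Nat.card_congr e.toEquiv, Nat.card_prod, Nat.card_perm, Nat.card_fin, hZ, if_pos rfl, if_neg hp,
        if_pos hev]
      rfl
  · obtain ⟨e⟩ := out_prod (F := F) (m := m) (by omega) hf hF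
    rw [form_eq, Nat.card_congr e.toEquiv, Nat.card_prod, hZ, if_neg h4, one_mul]
    by_cases hp : p = 2
    · rw [if_pos hp, show Nat.card (PGO.GO (Qp m F) ⧸ PGO.Ns (Qp m F)) = 2 from
        index_two (by omega) (two_zero hF hp)]
    · rw [if_neg hp, card_quot_odd (by omega) (odd_card hF hp), hF]
      by_cases h : Odd m ∧ p ^ f % 4 = 3
      · rw [if_pos h, if_neg fun he => (even_half_iff m (hF ▸ odd_card hF hp)).mp he h]
      · rw [if_neg h, if_pos ((even_half_iff m (hF ▸ odd_card hF hp)).mpr h)]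

end CfsgLib.OutPlus
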