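import Cfsg.Agent.Lib.OrthAut.PlusInn
import Cfsg.Agent.Lib.OrthAut.MinusOut
import Cfsg.Agent.Lib.PGO.Models
import Cfsg.Agent.Lib.Chev.Aut.FieldCyclic

/-!
The outer automorphism groups of the orthogonal groups of plus type in dimension at least ten: the field
automorphisms split, and a twist by the reflection makes them central modulo inner automorphisms.
-/

set_option autoImplicit false
set_option linter.unusedSectionVars false
set_option linter.style.haveILetI false
set_option linter.unusedSimpArgs false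
set_option maxHeartbeats 1600000

namespace CfsgLib.OutPlus

open QuadraticMap Module CfsgLib.OrthAut CfsgLib.OrthPair
open CfsgLib.Lagrangian (Qp Qp_apply Qp_nondeg)
open scoped Matrix

/-- A central twist of a complement. -/
theorem prod_of_twist {G A : Type*} [Group G] [Finite G] [Group A] {R : Type*} [Group R] (i : A →* G)
    (hi : Function.Injective i) (π : G →* R) (hπ : ∀ a, π (i a) = 1) (s : G) {f : ℕ} [NeZero f]
    (hord : orderOf (π s) = f) (hsf : s ^ f = 1) (hcard : Nat.card G = Nat.card A * f) (w : A) (hw : w ^ f = 1)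
    (hws : Commute (i w) s) (hc : ∀ a, s * i a * s⁻¹ = i (w * a * w⁻¹)) :
    Nonempty (G ≃* A × Multiplicative (ZMod f)) := by
  obtain ⟨t, ht⟩ : ∃ t, t = (i w)⁻¹ * s := ⟨_, rfl⟩
  have htf : t ^ f = 1 := by rw [ht, hws.inv_left.mul_pow, hsf, inv_pow, ← map_pow, hw, map_one, inv_one, one_mul]
  have hπt : orderOf (π t) = f := by rw [ht, map_mul, map_inv, hπ, inv_one, one_mul, hord]
  have hot : orderOf t = f :=
    Nat.dvd_antisymm (orderOf_dvd_of_pow_eq_one htf) (hπt ▸ orderOf_map_dvd π t)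
  have hcomm : ∀ a, Commute (i a) t := fun a => by
    have h := hc a
    rw [mul_inv_eq_iff_eq_mul] at h
    show i a * t = t * i a
    rw [ht, mul_assoc, h, map_mul, map_mul, map_inv]
    group
  obtain ⟨ψ⟩ := OrthMinus.prod_equiv i (Subgroup.zpowers t).subtype
    (fun a y => by
      obtain ⟨k, hk⟩ := y.2
      show Commute (i a) y.1
      rw [← hk]; exact (hcomm a).zpow_right k)
    hi (Subgroup.subtype_injective _)
    (fun a y hay => by
      obtain ⟨k, hk⟩ := y.2
      rw [Subgroup.coe_subtype, ← hk] at hay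
      have h1 := congrArg π hay
      rw [hπ, map_zpow] at h1
      have h2 : t ^ k = 1 := by
        rw [← orderOf_dvd_iff_zpow_eq_one, hot, ← hπt]
        exact orderOf_dvd_iff_zpow_eq_one.mpr h1.symm
      refine hi ?_
      rw [map_one, hay]; exact h2)
    (by rw [hcard, Nat.card_zpowers, hot])
  exact ⟨ψ.trans ((MulEquiv.refl A).prodCongr (mulEquivOfCyclicCardEq (by
    rw [Nat.card_zpowers, hot, Nat.card_congr Multiplicative.toAdd, Nat.card_zmod])))⟩

universe u

variable {F : Type u} [Field F] [Fintype F] {m : ℕ}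

/-- The standard semilinear maps form a group of complements. -/
def esHom : RingAut F →* ΓO (Qp m F) where
  toFun := OrthPlus.es
  map_one' := rfl
  map_mul' σ τ := Subtype.ext (SemidirectProduct.ext (by simp [OrthPlus.es]) rfl)

variable (hm : 5 ≤ m)

include hm in
theorem exists_split :
    ∃ (π : Cfsg.Out (Cfsg.POmega F ⇑(Qp m F)) →* RingAut F)
      (j : PGO.GO (Qp m F) ⧸ PGO.Ns (Qp m F) →* Cfsg.Out (Cfsg.POmega F ⇑(Qp m F)))
      (s : RingAut F →* Cfsg.Out (Cfsg.POmega F ⇑(Qp m F))),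
      Function.Injective j ∧ (∀ σ, π (s σ) = σ) ∧ (∀ a, π (j a) = 1) ∧
        Nat.card (Cfsg.Out (Cfsg.POmega F ⇑(Qp m F))) =
          Nat.card (PGO.GO (Qp m F) ⧸ PGO.Ns (Qp m F)) * Nat.card (RingAut F) ∧
        ∀ σ x, ∃ y : PGO.GO (Qp m F), y.1 = σA F _ σ x.1 ∧
          s σ * j (QuotientGroup.mk x) * (s σ)⁻¹ = j (QuotientGroup.mk y) := by
  obtain ⟨π, j, hj, hrange, hπ, hjg⟩ :=
    OrthMinus.exists_outer Qp_nondeg (OrthPlus.hn_plus hm) (OrthPlus.hmax_plus (F := F) hm)
  let s : RingAut F →* Cfsg.Out (Cfsg.POmega F ⇑(Qp m F)) :=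
    (QuotientGroup.mk' (Cfsg.Inn (Cfsg.POmega F ⇑(Qp m F)))).comp (Ψ.comp esHom)
  have hs : ∀ σ, π (s σ) = σ := fun σ => hπ (esHom σ)
  refine ⟨π, j, s, hj, hs, fun a => MonoidHom.mem_ker.mp (hrange ▸ ⟨a, rfl⟩), ?_, fun σ x => ?_⟩
  · rw [← π.ker.card_mul_index, Subgroup.index_ker, MonoidHom.range_eq_top.mpr fun σ => ⟨s σ, hs σ⟩,
      Subgroup.card_top, ← hrange, ← Nat.card_congr (MonoidHom.ofInjective hj).toEquiv]
  · obtain ⟨y, hy, e⟩ := conj_ofGO (OrthPlus.es (m := m) σ) x
    refine ⟨y, by rw [hy, OrthPlus.es_left, OrthPlus.es_right, one_mul, inv_one, mul_one], ?_⟩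
    rw [hjg, hjg, ← e, map_mul, map_mul, map_inv]
    rfl

include hm in
theorem index_two (h2 : (2 : F) = 0) : (PGO.Ns (Qp m F)).index = 2 := by
  rw [← Gd_two h2]
  exact Gd_index Qp_nondeg OrthPlus.hev_plus (OrthPlus.hn_plus hm)

include hm in
theorem card_quot_odd (hodd : Odd (Fintype.card F)) :
    Nat.card (PGO.GO (Qp m F) ⧸ PGO.Ns (Qp m F)) = if Odd m ∧ Fintype.card F % 4 = 3 then 4 else 8 := by
  have hn := PGO.negMem_plus (F := F) (m := m) hodd (by omega)
  split_ifs with h
  · obtain ⟨e⟩ := (PGO.plusData hodd (by omega)).four_iso fun h' => hn.mp h' h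
    rw [← Nat.card_congr e.toEquiv, Nat.card_congr Multiplicative.toAdd, Nat.card_prod, Nat.card_zmod]
  · obtain ⟨e⟩ := (PGO.plusData hodd (by omega)).dihedral_iso (hn.mpr h)
    rw [← Nat.card_congr e.toEquiv, DihedralGroup.nat_card]

include hm in
theorem out_prod {p f : ℕ} [Fact p.Prime] (hf : 1 ≤ f) (hF : Fintype.card F = p ^ f) :
    Nonempty (Cfsg.Out (Cfsg.POmega F ⇑(Qp m F)) ≃*
      (PGO.GO (Qp m F) ⧸ PGO.Ns (Qp m F)) × Multiplicative (ZMod f)) := by
  haveI : NeZero f := ⟨by omega⟩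
  haveI : CharP F p := charP_of_card_eq_prime_pow hF
  obtain ⟨hcyc, hcard⟩ := Chev.ringAut_cyclic_card (F := F) p (f := f) (by rw [Nat.card_eq_fintype_card, hF])
  obtain ⟨π, j, s, hj, hs, hπj, hO, hconj⟩ := exists_split (F := F) hm
  haveI : Finite (Cfsg.Out (Cfsg.POmega F ⇑(Qp m F))) := Nat.finite_of_card_ne_zero (by
    rw [hO, hcard]; exact Nat.mul_ne_zero Nat.card_pos.ne' (by omega))
  obtain ⟨φ, hφ⟩ := hcyc.exists_generator
  have hφf : orderOf φ = f := (orderOf_eq_card_of_forall_mem_zpowers hφ).trans hcard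
  have hord : orderOf (π (s φ)) = f := by rw [hs, hφf]
  have hsf : s φ ^ f = 1 := by rw [← map_pow, ← hφf, pow_orderOf_eq_one, map_one]
  rw [hcard] at hO
  by_cases h2 : (2 : F) = 0
  · refine prod_of_twist j hj π hπj (s φ) hord hsf hO 1 (one_pow f) (by rw [map_one]; exact Commute.one_left _)
      fun a => ?_
    rw [one_mul, inv_one, mul_one]
    obtain ⟨c, hc⟩ : ∃ c, s φ * j a * (s φ)⁻¹ = j c := by
      induction a using QuotientGroup.induction_on with
      | _ x => obtain ⟨y, -, h⟩ := hconj φ x; exact ⟨_, h⟩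
    rw [hc]
    by_cases ha : a = 1
    · rw [ha, map_one] at hc ⊢
      rw [← hc]; group
    · have hc1 : c ≠ 1 := fun h => by
        rw [h, map_one, conj_eq_one_iff] at hc
        exact ha (hj (hc.trans (map_one j).symm))
      have h2' := (Nat.card_eq_two_iff' (1 : PGO.GO (Qp m F) ⧸ PGO.Ns (Qp m F))).mp (index_two hm h2)
      rw [h2'.unique hc1 ha]
  · have hodd : Odd (Fintype.card F) := by
      rw [hF]
      refine ((Fact.out : p.Prime).odd_of_ne_two fun h => h2 ?_).pow
      subst h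
      exact CharTwo.two_eq_zero
    let D := PGO.plusData (F := F) (m := m) hodd (by omega)
    have hfix : ∀ i, (φ : F → F) ∘ D.v i = D.v i := fun i => funext fun k => by
      show φ (D.v i k) = D.v i k
      rcases i with i | i <;>
        simp [D, PGO.plusData, PGO.vPlus, OmegaPlus.w, Pi.single_apply, apply_ite φ, map_add, map_neg]
    have hx : s φ * j D.x * (s φ)⁻¹ = j D.x := by
      obtain ⟨y, hy, h⟩ := hconj φ D.r
      refine h.trans (congrArg j (congrArg QuotientGroup.mk (Subtype.ext ?_)))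
      rw [hy]
      refine Units.ext (Matrix.ext fun k l => ?_)
      rw [σA_val, Matrix.map_apply,
        show D.r.1.1 = Cfsg.reflectionMatrix (⇑(Qp m F)) D.a from OmegaList.symm_refl_matrix (Qp m F) D.ha]
      have hQ : ∀ v, φ (Qp m F v) = Qp m F ((φ : F → F) ∘ v) := fun v => by
        simp [Qp_apply, Cfsg.quadFormPlus, map_sum]
      have ha : (φ : F → F) ∘ D.a = D.a := hfix _
      have ha' : ∀ k, φ (D.a k) = D.a k := fun k => congrFun ha k
      have hQa : φ (Qp m F D.a) = Qp m F D.a := by rw [hQ, ha]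
      have hpol : φ (Cfsg.polarVec (⇑(Qp m F)) D.a l) = Cfsg.polarVec (⇑(Qp m F)) D.a l := by
        simp only [Cfsg.polarVec, polar, map_sub, hQ]
        have e : (φ : F → F) ∘ (D.a + Pi.single l 1) = D.a + Pi.single l 1 := by
          funext k; simp [ha', Pi.single_apply, apply_ite φ]
        have e' : (φ : F → F) ∘ (Pi.single l (1 : F)) = Pi.single l 1 := by
          funext k; simp [Pi.single_apply, apply_ite φ]
        simp [e, e', ha, hQ]
      simp [Cfsg.reflectionMatrix, Matrix.sub_apply, Matrix.one_apply, Matrix.vecMulVec_apply, apply_ite φ,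
        map_inv₀, hQa, hpol, ha']
    have hy : s φ * j D.y * (s φ)⁻¹ = j D.y ∨ s φ * j D.y * (s φ)⁻¹ = j (D.x * D.y * D.x) := by
      obtain ⟨y, hy, h⟩ := hconj φ D.δ
      rw [show j D.y = j (QuotientGroup.mk D.δ) from rfl, h]
      have hν : φ (D.ν : F) * (D.ν : F)⁻¹ ≠ 0 := by simp
      obtain ⟨t, ht⟩ : IsSquare (φ (D.ν : F) * (D.ν : F)⁻¹) := by
        rw [FiniteForms.isSquare_mul_iff (by simp) (by simp), isSquare_inv]
        exact ⟨fun ⟨t, ht⟩ => ⟨φ.symm t, φ.injective (by rw [ht, map_mul]; simp)⟩, fun h => h.map φ⟩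
      have ht0 : t ≠ 0 := fun h => hν (by rw [ht, h, mul_zero])
      obtain ⟨u, hu⟩ : ∃ u : Fˣ, (u : F) = t := ⟨Units.mk0 t ht0, rfl⟩
      have hmat : (y * D.δ⁻¹).1.1 =
          Matrix.fromBlocks ((φ (D.ν : F) * (D.ν : F)⁻¹) • (1 : Matrix (Fin m) (Fin m) F)) 0 0 1 := by
        rw [Subgroup.coe_mul, hy, Subgroup.coe_inv, show D.δ.1 = PGO.dPlus D.ν from rfl, Units.val_mul, σA_val]
        show (Matrix.fromBlocks 0 ((D.ν : F) • 1) 1 0).map φ *
          Matrix.fromBlocks 0 1 (((D.ν⁻¹ : Fˣ) : F) • 1) 0 = _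
        rw [Matrix.fromBlocks_map, Matrix.fromBlocks_multiply]
        simp [Matrix.map_one, Matrix.map_smul', smul_smul, Units.val_inv_eq_inv_val, mul_comm]
      have hmem : y * D.δ⁻¹ ∈ PGO.Hs (Qp m F) := by
        obtain ⟨o, ho⟩ : ∃ o : Cfsg.isometryGroup F ⇑(Qp m F), o.1 = PGO.sc u⁻¹ * (y * D.δ⁻¹).1 := by
          refine ⟨⟨_, fun v _ => ?_⟩, rfl⟩
          show Qp m F ((PGO.sc u⁻¹ * (y * D.δ⁻¹).1 : GL _ F).1 *ᵥ v) = Qp m F v
          rw [Units.val_mul, ← Matrix.mulVec_mulVec, PGO.sc_mulVec, QuadraticMap.map_smul, hmat,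
            Matrix.fromBlocks_mulVec, Qp_apply, Qp_apply, Cfsg.quadFormPlus, Cfsg.quadFormPlus, smul_eq_mul,
            Finset.mul_sum, Units.val_inv_eq_inv_val, hu]
          refine Finset.sum_congr rfl fun i _ => ?_
          simp [Matrix.smul_mulVec, ht]
          field_simp
        refine ⟨u, o.1, PGO.Data.mem_SO.mpr ?_, by rw [ho]; simp⟩
        rw [ho, Units.val_mul, Matrix.det_mul, PGO.sc_val, Matrix.det_smul, Matrix.det_one, mul_one, hmat,
          Matrix.det_fromBlocks_zero₂₁, Matrix.det_smul, Matrix.det_one, mul_one, mul_one, ht,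
          Units.val_inv_eq_inv_val, hu, Fintype.card_sum, Fintype.card_fin, pow_add, ← mul_pow, ← mul_pow]
        rw [show t⁻¹ * t⁻¹ * (t * t) = 1 by field_simp, one_pow]
      have e0 : (QuotientGroup.mk y : PGO.GO (Qp m F) ⧸ PGO.Ns (Qp m F)) = QuotientGroup.mk (y * D.δ⁻¹) * D.y := by
        rw [PGO.Data.y, ← QuotientGroup.mk_mul, inv_mul_cancel_right]
      rcases D.mk_Hs hmem with h' | h'
      · exact Or.inl (by rw [e0, h', one_mul]; rfl)
      · exact Or.inr (by rw [e0, h']; simp only [mul_assoc, D.y_sq, mul_one])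
    have hgen : ∀ (w : PGO.GO (Qp m F) ⧸ PGO.Ns (Qp m F)),
        s φ * j D.x * (s φ)⁻¹ = j (w * D.x * w⁻¹) → s φ * j D.y * (s φ)⁻¹ = j (w * D.y * w⁻¹) →
        ∀ a, s φ * j a * (s φ)⁻¹ = j (w * a * w⁻¹) := by
      intro w h1 h3 a
      refine DFunLike.congr_fun (f := (MulAut.conj (s φ)).toMonoidHom.comp j)
        (g := j.comp (MulAut.conj w).toMonoidHom) ?_ a
      refine MonoidHom.eq_of_eqOn_dense D.generate ?_
      rintro b (rfl | rfl)
      · exact h1
      · show MulAut.conj (s φ) (j (D.x * D.y)) = j (MulAut.conj w (D.x * D.y))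
        rw [map_mul, map_mul, map_mul, map_mul]
        exact congrArg₂ (· * ·) h1 h3
    rcases hy with hy | hy
    · refine prod_of_twist j hj π hπj (s φ) hord hsf hO 1 (one_pow f) (by rw [map_one]; exact Commute.one_left _)
        (hgen 1 (by simpa using hx) (by simpa using hy))
    · have hxinv : D.x⁻¹ = D.x := inv_eq_of_mul_eq_one_right D.x_sq
      have hcs : Commute (j D.x) (s φ) := (mul_inv_eq_iff_eq_mul.mp hx).symm
      have hgx := hgen D.x (by simpa using hx) (by rw [hxinv]; exact hy)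
      by_cases hxf : D.x ^ f = 1
      · exact prod_of_twist j hj π hπj (s φ) hord hsf hO D.x hxf hcs hgx
      · have hfo : Odd f := Nat.not_even_iff_odd.mp fun ⟨k, hk⟩ => hxf (by
          rw [hk, pow_add, ← (Commute.refl D.x).mul_pow, D.x_sq, one_pow])
        have hxf' : D.x ^ f = D.x := by
          obtain ⟨k, hk⟩ := hfo
          rw [hk, pow_succ, pow_mul, pow_two, D.x_sq, one_pow, one_mul]
        have hcen : ∀ a, D.x * a = a * D.x := fun a => by
          have ht : ∀ n : ℕ, ∀ a, s φ ^ n * j a * (s φ ^ n)⁻¹ = j (D.x ^ n * a * (D.x ^ n)⁻¹) := by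
            intro n
            induction n with
            | zero => intro a; simp
            | succ n ih =>
              intro a
              rw [pow_succ, pow_succ, show s φ ^ n * s φ * j a * (s φ ^ n * s φ)⁻¹ =
                s φ ^ n * (s φ * j a * (s φ)⁻¹) * (s φ ^ n)⁻¹ by group, hgx, ih]
              congr 1
              group
          have h := ht f a
          rw [hsf, hxf', one_mul, inv_one, mul_one] at h
          exact (eq_mul_inv_iff_mul_eq.mp (hj h)).symm
        refine prod_of_twist j hj π hπj (s φ) hord hsf hO 1 (one_pow f) (by rw [map_one]; exact Commute.one_left _)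
          fun a => ?_
        rw [hgx, hcen, mul_inv_cancel_right, one_mul, inv_one, mul_one]

end CfsgLib.OutPlus
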